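import Mathlib.Algebra.Homology.DerivedCategory.ExactFunctor
import Mathlib.Algebra.Homology.DerivedCategory.KProjective
import Mathlib.Algebra.Homology.HomotopyCategory.KProjective
import Mathlib.Algebra.Homology.Embedding.CochainComplex

/-!
# Homotopy classes versus derived maps through a fully faithful exact functor
-/

set_option autoImplicit false

universe w w' v v' u u'

open CategoryTheory CategoryTheory.Limits

namespace Groth.Agent.AffineKD

variable {C : Type u} [Category.{v} C] [Abelian C] [HasDerivedCategory.{w} C]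
  {A : Type u'} [Category.{v'} A] [Abelian A] [HasDerivedCategory.{w'} A]
  (Θ : C ⥤ A) [Θ.Additive] [Θ.Full] [Θ.Faithful] [PreservesFiniteLimits Θ]
  [PreservesFiniteColimits Θ]

omit [HasDerivedCategory.{w} C] [HasDerivedCategory.{w'} A] [PreservesFiniteLimits Θ]
  [PreservesFiniteColimits Θ] in
/-- A complex with terms in the essential image is the image of a complex. -/
lemma exists_lift (E : CochainComplex A ℤ) (M : ℤ → C) (e : ∀ i, Θ.obj (M i) ≅ E.X i) :
    ∃ P : CochainComplex C ℤ, P.X = M ∧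
      Nonempty ((Θ.mapHomologicalComplex (ComplexShape.up ℤ)).obj P ≅ E) := by
  let d : ∀ i j, M i ⟶ M j := fun i j => Θ.preimage ((e i).hom ≫ E.d i j ≫ (e j).inv)
  let P : CochainComplex C ℤ :=
    { X := M
      d := d
      shape := fun i j h => Θ.map_injective (by simp [d, E.shape i j h])
      d_comp_d' := fun i j k _ _ => Θ.map_injective (by simp [d]) }
  refine ⟨P, rfl, ⟨HomologicalComplex.Hom.isoOfComponents e (fun i j _ => ?_)⟩⟩
  change (e i).hom ≫ E.d i j = Θ.map (Θ.preimage _) ≫ (e j).hom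
  rw [Functor.map_preimage]
  simp

/-- Maps out of a bounded above complex of projectives. -/
theorem bijective_Qh_map
    (hΘ : ∀ K L : DerivedCategory C,
      Function.Bijective fun g : K ⟶ L => Θ.mapDerivedCategory.map g)
    (E F : CochainComplex A ℤ) (b : ℤ) (hEb : ∀ i, b < i → IsZero (E.X i))
    (M : ℤ → C) (hM : ∀ i, Projective (M i)) (e : ∀ i, Θ.obj (M i) ≅ E.X i)
    (N : ℤ → C) (e' : ∀ i, Θ.obj (N i) ≅ F.X i) :
    Function.Bijective (fun φ : (HomotopyCategory.quotient A (ComplexShape.up ℤ)).obj E ⟶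
        (HomotopyCategory.quotient A (ComplexShape.up ℤ)).obj F =>
      (DerivedCategory.Qh (C := A)).map φ) := by
  obtain ⟨P, hP, ⟨eP⟩⟩ := exists_lift Θ E M e
  obtain ⟨P', -, ⟨eP'⟩⟩ := exists_lift Θ F N e'
  have : ∀ i, Projective (P.X i) := fun i => hP ▸ hM i
  have : P.IsStrictlyLE b := by
    rw [CochainComplex.isStrictlyLE_iff]
    intro i hi
    refine IsZero.of_full_of_faithful_of_isZero Θ _ ?_
    exact (hEb i hi).of_iso ((hP ▸ e i : Θ.obj (P.X i) ≅ E.X i))
  have : P.IsKProjective := CochainComplex.isKProjective_of_projective P b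
  let qC := HomotopyCategory.quotient C (ComplexShape.up ℤ)
  let qA := HomotopyCategory.quotient A (ComplexShape.up ℤ)
  let ΘK := Θ.mapHomotopyCategory (ComplexShape.up ℤ)
  let f := Θ.mapDerivedCategoryFactorsh
  let ε : ΘK.obj (qC.obj P) ≅ qA.obj E := qA.mapIso eP
  let ε' : ΘK.obj (qC.obj P') ≅ qA.obj F := qA.mapIso eP'
  have h1 : Function.Bijective fun ψ : qC.obj P ⟶ qC.obj P' =>
      Θ.mapDerivedCategory.map (DerivedCategory.Qh.map ψ) :=
    (hΘ _ _).comp (CochainComplex.IsKProjective.Qh_map_bijective P (qC.obj P'))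
  have h2 : Function.Bijective fun ψ : qC.obj P ⟶ qC.obj P' => ε.homCongr ε' (ΘK.map ψ) :=
    (ε.homCongr ε').bijective.comp ⟨fun _ _ h => ΘK.map_injective h, ΘK.map_surjective⟩
  rw [← Function.Bijective.of_comp_iff _ h2]
  convert (((f.app (qC.obj P)) ≪≫ DerivedCategory.Qh.mapIso ε).homCongr
    ((f.app (qC.obj P')) ≪≫ DerivedCategory.Qh.mapIso ε')).bijective.comp h1 using 1
  funext ψ
  have hn := f.inv.naturality ψ
  dsimp at hn
  simp [Iso.homCongr, ΘK, ← reassoc_of% hn]

end Groth.Agent.AffineKD
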