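import Groth.Agent.AffineKD.Abstract
import Groth.Agent.Misc4.QCohTildeD
import Groth.Agent.Misc4.DerivedFF
import Groth.Agent.Misc4.DerivedComp
import Groth.Agent.PropsBasic2.TildeExact
import Groth.Agent.S12451
import Groth.Agent.LocFree.Basic
import Groth.Agent.KTheory.LocFree
import Groth.Prelude.Def_DCoh2
import Groth.Prelude.Def_FlatMod2
import Mathlib.AlgebraicGeometry.AffineScheme
import Mathlib.Algebra.Category.ModuleCat.Projective

/-!
# On an affine scheme, maps from bounded above locally free complexes to quasi-coherent complexes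
-/

set_option autoImplicit false

universe u

open CategoryTheory CategoryTheory.Limits AlgebraicGeometry

attribute [local instance] HasDerivedCategory.standard

namespace Groth.Agent.AffineKD

variable {X Y : Scheme.{u}}

/-- Restrictions along inverse isomorphisms are inverse. -/
noncomputable def restrInvIso (f : X ⟶ Y) (g : Y ⟶ X) [IsOpenImmersion f] [IsOpenImmersion g]
    (h : g ≫ f = 𝟙 Y) :
    Scheme.Modules.restrictFunctor f ⋙ Scheme.Modules.restrictFunctor g ≅ 𝟭 Y.Modules :=
  (Scheme.Modules.restrictFunctorComp g f).symm ≪≫ Scheme.Modules.restrictFunctorCongr h ≪≫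
    Scheme.Modules.restrictFunctorId

theorem bijective_of_isAffine [IsAffine X] (E F : CochainComplex X.Modules ℤ) (b : ℤ)
    (hEb : ∀ i : ℤ, b < i → IsZero (E.X i))
    (hE : ∀ i : ℤ, FlatMod.IsFinLocFree (E.X i)) (hF : ∀ i : ℤ, Coh.IsQCoh (F.X i)) :
    Function.Bijective (fun φ : (HomotopyCategory.quotient X.Modules (ComplexShape.up ℤ)).obj E ⟶
        (HomotopyCategory.quotient X.Modules (ComplexShape.up ℤ)).obj F =>
      (DerivedCategory.Qh (C := X.Modules)).map φ) := by
  let R : CommRingCat.{u} := Γ(X, ⊤)
  let f : X ⟶ Spec R := X.isoSpec.hom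
  let g : Spec R ⟶ X := X.isoSpec.inv
  let c := restrInvIso f g X.isoSpec.inv_hom_id
  let d := restrInvIso g f X.isoSpec.hom_inv_id
  let eqv : (Spec R).Modules ≌ X.Modules :=
    CategoryTheory.Equivalence.mk (Scheme.Modules.restrictFunctor f)
      (Scheme.Modules.restrictFunctor g) c.symm d
  have hf : (Scheme.Modules.restrictFunctor f).IsEquivalence := eqv.isEquivalence_functor
  have hg : (Scheme.Modules.restrictFunctor g).IsEquivalence := eqv.isEquivalence_inverse
  have : PreservesFiniteLimits (tilde.functor R) :=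
    Groth.PropsBasic2.preservesFiniteLimits_tilde R
  have : PreservesFiniteColimits (tilde.functor R) :=
    Groth.Misc4.QCohTildeD.preservesFiniteColimits_tilde
  let Θ := tilde.functor R ⋙ Scheme.Modules.restrictFunctor f
  have hΘ : ∀ K L : DerivedCategory (ModuleCat.{u} R),
      Function.Bijective fun φ : K ⟶ L => Θ.mapDerivedCategory.map φ := by
    intro K L
    let τ := Groth.Misc4.DerivedComp.compIso (tilde.functor R)
      (Scheme.Modules.restrictFunctor f) Θ (Iso.refl _)
    have h1 := (Groth.Misc4.DerivedFF.bijective_map (Scheme.Modules.restrictFunctor f)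
      (Scheme.Modules.restrictFunctor g) (𝟭 X.Modules) c (𝟙 _) d.hom
      (fun _ => inferInstance) (fun _ => inferInstance) _ _).comp
        (Groth.Misc4.QCohTildeD.bijective_map R K L)
    convert ((τ.app K).homCongr (τ.app L)).bijective.comp h1 using 1
    funext φ
    exact ((Iso.inv_comp_eq (τ.app K)).2 (τ.hom.naturality φ)).symm
  have hq : ∀ (M : X.Modules), Coh.IsQCoh M →
      ∃ N : ModuleCat.{u} R, Nonempty (Θ.obj N ≅ M) ∧
        Nonempty (tilde N ≅ (Scheme.Modules.restrictFunctor g).obj M) := by
    intro M hM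
    have : M.IsQuasicoherent := hM
    let M' := (Scheme.Modules.restrictFunctor g).obj M
    obtain ⟨N, ⟨e⟩⟩ := (isIso_fromTildeΓ_iff (M := M')).1 inferInstance
    exact ⟨N, ⟨(Scheme.Modules.restrictFunctor f).mapIso e ≪≫ d.app M⟩, ⟨e⟩⟩
  choose N hN hN' using fun i => hq (E.X i)
    (Groth.PropsBasic.LocFree.isQuasicoherent_of_isFinLocFree _ (hE i))
  choose N' hN'' _ using fun i => hq (F.X i) (hF i)
  refine bijective_Qh_map Θ hΘ E F b hEb N (fun i => ?_) (fun i => (hN i).some) N'
    (fun i => (hN'' i).some)
  have hp := ((Groth.Agent.S12451.result (N i)).1 (Groth.KTheory.LocFree.isFinLocFree_of_iso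
    (hN' i).some.symm (Groth.LocFree.isFinLocFree_restrict g (hE i)))).2
  exact (IsProjective.iff_projective (N i)).1 hp

end Groth.Agent.AffineKD
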